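import Groth.Agent.S3636
import Groth.Agent.LoccohB.DualShift
import Groth.Agent.PerfA.FieldSch
import Groth.Agent.PerfB.TildeExact
import Groth.Agent.PerfA.QCohD
import Groth.Agent.Fdesc.StructMod
import Groth.Agent.RatSing.K870.DualDeg

/-!
# Dualizing complexes in one prescribed degree

An irreducible Cohen–Macaulay scheme of finite type over a field has a dualizing complex with quasi-coherent
cohomology sheaves which is concentrated in any prescribed degree.
-/

set_option autoImplicit false

universe u

open CategoryTheory Category Limits AlgebraicGeometry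

attribute [local instance] HasDerivedCategory.standard

namespace K870.DualEx

open DCoh Groth.Agent

section Shift

variable {X : Scheme.{u}}
  [∀ (U : Scheme.{u}) (j : U ⟶ X) [IsOpenImmersion j],
    PreservesFiniteLimits (Scheme.Modules.restrictFunctor j)]
  [∀ (R : CommRingCat.{u}), PreservesFiniteLimits (tilde.functor R)]

/-- A shift of a dualizing complex is dualizing. -/
theorem isDualizingSch_shift {K : D X} (hK : Dual2.IsDualizingSch X K) (n : ℤ) :
    Dual2.IsDualizingSch X (K⟦n⟧) := by
  intro A _ j _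
  obtain ⟨ω, hω, ⟨e⟩⟩ := hK A j
  exact ⟨ω⟦n⟧, LoccohB.DualShift.isDualizing_shift ω hω n,
    ⟨((restrictD j).commShiftIso n).app K ≪≫
      (shiftFunctor (D (Spec (CommRingCat.of A))) n).mapIso e ≪≫
      (((tildeD (CommRingCat.of A)).commShiftIso n).app ω).symm⟩⟩

/-- A dualizing complex on an irreducible Cohen–Macaulay scheme is concentrated in one degree. -/
theorem exists_degree [IsLocallyNoetherian X] [IrreducibleSpace X]
    (hcm : ∀ x : X, LocCoh.IsCohenMacaulayLocalRing (X.presheaf.stalk x))
    {K : D X} (hK : Dual2.IsDualizingSch X K) : ∃ n : ℤ, ∀ i : ℤ, i ≠ n → IsZero (HD K i) := by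
  have hcoh := Ega1.DualSchBdd.isCohD_of_isDualizingSch hK
  obtain ⟨n, hn, -⟩ := ((S1809.result X K hK).1 (genericPoint X)).1 (hcm _)
  refine ⟨n, fun i hi => ?_⟩
  apply Dcoh.StalkMod.isZero_of_subsingleton
  intro x
  have h2 : Nontrivial ((HD K n).presheaf.stalk x) :=
    DualDeg.nontrivial_of_specializes (hcoh n) (genericPoint_specializes x) hn
  obtain ⟨k, hk, huniq⟩ := ((S1809.result X K hK).1 x).1 (hcm x)
  by_contra hcon
  rw [not_subsingleton_iff_nontrivial] at hcon
  exact hi ((huniq i hcon).trans (huniq n h2).symm)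

end Shift

/-- `H^i(K[m]) = H^(i + m)(K)`. -/
noncomputable def HDshift {X : Scheme.{u}} (K : D X) (m i j : ℤ) (h : m + i = j) :
    HD (K⟦m⟧) i ≅ HD K j :=
  ((DerivedCategory.homologyFunctor X.Modules 0).shiftIso m i j h).app K

/-- An irreducible Cohen–Macaulay scheme of finite type over a field has a dualizing complex
concentrated in any prescribed degree. -/
theorem exists_dualizing (k : Type u) [Field k] {X : Scheme.{u}}
    (g : X ⟶ Spec (CommRingCat.of k)) [LocallyOfFiniteType g] [QuasiCompact g]
    [IrreducibleSpace X]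
    (hcm : ∀ x : X, LocCoh.IsCohenMacaulayLocalRing (X.presheaf.stalk x))
    [∀ (U : Scheme.{u}) (j : U ⟶ X) [IsOpenImmersion j],
      PreservesFiniteLimits (Scheme.Modules.restrictFunctor j)]
    [∀ (R : CommRingCat.{u}), PreservesFiniteLimits (tilde.functor R)] (n : ℤ) :
    ∃ K : DQCoh X, Dual2.IsDualizingSch X K.obj ∧ ∀ i : ℤ, i ≠ n → IsZero (HD K.obj i) := by
  have hr : ∀ (U V : Scheme.{u}) (j : U ⟶ V) [IsOpenImmersion j],
      PreservesFiniteLimits (Scheme.Modules.restrictFunctor j) := fun U V j _ => inferInstance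
  have hX : IsLocallyNoetherian X := LocallyOfFiniteType.isLocallyNoetherian g
  let W : DQCoh (Spec (CommRingCat.of k)) := ⟨inD _ (Coh.structureModule _),
    PerfA.QCohD.isQCohD_inD _ (Fdesc.StructMod.isQCoh_structureModule _)⟩
  have hW : Dual2.IsDualizingSch (Spec (CommRingCat.of k)) W.obj :=
    PerfA.FieldSch.isDualizingSch_field k W.obj ⟨Iso.refl _⟩
  have hW0 : DerivedCategory.IsGE W.obj 0 := by
    change DerivedCategory.IsGE (inD _ (Coh.structureModule _)) 0
    infer_instance
  obtain ⟨K, hK, -⟩ := S3636.result (Spec (CommRingCat.of k)) X W hW 0 hW0 g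
  obtain ⟨m, hm⟩ := exists_degree hcm hK
  have hK' : Dual2.IsDualizingSch X (K⟦m - n⟧) := isDualizingSch_shift hK (m - n)
  have hc := Ega1.DualSchBdd.isCohD_of_isDualizingSch hK'
  refine ⟨⟨K⟦m - n⟧, fun i => (hc i).1⟩, hK', fun i hi => ?_⟩
  exact (hm (m - n + i) (by omega)).of_iso (HDshift K (m - n) i _ rfl)

end K870.DualEx
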