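import Groth.Agent.S0998
import Groth.Agent.S1054
import Groth.Agent.S1766
import Groth.Agent.Dcoh.DerPull
import Groth.Agent.PerfB.TildeExact
import Groth.Agent.PerfC.TildeInjAdapted
import Groth.Agent.Fdesc.StructMod
import Groth.Agent.RatSing.K870.EtaIff
import Groth.Prelude.Def_Dual3

/-!
# The existence binders of the rows on derived direct images

Every existence hypothesis carried by the rows S15710, S15711, S15718 holds for every quasi-compact
quasi-separated morphism (of quasi-compact quasi-separated schemes, for the right adjoint).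
-/

set_option autoImplicit false

universe u

open CategoryTheory Category Limits AlgebraicGeometry

attribute [local instance] HasDerivedCategory.standard

namespace K870.Inst

open DCoh Groth.Agent

variable {X Y : Scheme.{u}} (f : X ⟶ Y)

theorem hasRpush : HasRpush f := Dcoh.DerSch.hasRpush f

theorem hasLpull : HasLpull f := Dcoh.DerPull.hasLpull f

theorem hasInjectiveResolutions (X : Scheme.{u}) : HasInjectiveResolutions X.Modules :=
  Dcoh.DerSch.hasInjectiveResolutions X

theorem restrict_exact (Y : Scheme.{u}) :
    ∀ (U : Scheme.{u}) (j : U ⟶ Y) [IsOpenImmersion j],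
      PreservesFiniteLimits (Scheme.Modules.restrictFunctor j) := fun U j _ => inferInstance

theorem tilde_exact : ∀ R : CommRingCat.{u}, PreservesFiniteLimits (tilde.functor R) :=
  fun R => inferInstance

theorem rpushPreservesQCoh [QuasiCompact f] [QuasiSeparated f] [HasRpush f] :
    RpushPreservesQCoh f := fun K hK => S0998.result f K hK

theorem lpullPreservesQCoh [HasLpull f] : Dual3.LpullPreservesQCoh f :=
  fun K hK => S1054.result f K hK

theorem hasShriek [CompactSpace X] [QuasiSeparatedSpace X] [CompactSpace Y]
    [QuasiSeparatedSpace Y] [HasRpush f] (h : RpushPreservesQCoh f) : HasShriek f h :=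
  S1766.result X Y f h

section Adj

variable [HasRpush f] [HasLpull f] (h : RpushPreservesQCoh f) (hL : Dual3.LpullPreservesQCoh f)

/-- `Lf^* ⊣ Rf_*` on `D_QCoh`. -/
noncomputable def adjQ : Dual3.LpullQ f hL ⊣ RpushQ f h :=
  (Dcoh.DerPull.lpullAdj f).restrictFullyFaithful (ObjectProperty.fullyFaithfulι _)
    (ObjectProperty.fullyFaithfulι _) (Iso.refl _) (Iso.refl _)

end Adj

/-- `O_X` as an object of `D_QCoh`. -/
noncomputable def OQ (X : Scheme.{u}) : DQCoh X :=
  ⟨inD X (Coh.structureModule X),
    PerfA.QCohD.isQCohD_inD _ (Fdesc.StructMod.isQCoh_structureModule X)⟩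

/-- `Lf^* O_Y ≅ O_X` in `D_QCoh`. -/
noncomputable def lpullOQ [HasLpull f] (hL : Dual3.LpullPreservesQCoh f) :
    (Dual3.LpullQ f hL).obj (OQ Y) ≅ OQ X :=
  (ObjectProperty.fullyFaithfulι _).preimageIso (EtaIff.lpullO f)

end K870.Inst
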