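import Groth.Agent.Refuted.K870.Split
import Groth.Agent.Dcoh.DerPull2

/-!
# A left inverse of `O_Y ⟶ Rf_* O_X` from a morphism `ν : W ⟶ X` with `O_Y = R(f ∘ ν)_* O_W`

`K870.Split` produces the left inverse from a module on `X`; here it comes from a morphism `ν : W ⟶ X`
(nothing is assumed on `ν`) such that `O_Y ⟶ (ν ≫ f)_* O_W` is an isomorphism and
`R^p (ν ≫ f)_* O_W = 0` for `p > 0`.
-/

set_option autoImplicit false

universe u

open CategoryTheory Category Limits AlgebraicGeometry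

attribute [local instance] HasDerivedCategory.standard

namespace K870.SplitNu

open DCoh Groth.Agent Groth.Agent.PerfC.DTens Groth.Agent.PerfC.LpullTens
  Groth.Agent.Ega1.ADualUniv Groth.Agent.Dcoh.DerPull

section Abs

universe w v

variable {CX CY CW : Type w} [Category.{v} CX] [Category.{v} CY] [Category.{v} CW]
  {Lf : CY ⥤ CX} {Rf : CX ⥤ CY} (adjf : Lf ⊣ Rf) {Lν : CX ⥤ CW} {Rν : CW ⥤ CX} (adjν : Lν ⊣ Rν)
  {Lc : CY ⥤ CW} {Rc : CW ⥤ CY} (adjc : Lc ⊣ Rc) (α : Lc ⟶ Lf ⋙ Lν)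

theorem comp_eq_abs {M : CY} {N : CX} {P : CW} (e : Lf.obj M ⟶ N) (l : Lν.obj N ⟶ P) :
    ((adjf.unit.app M ≫ Rf.map e) ≫ Rf.map (adjν.unit.app N ≫ Rν.map l)) ≫
        (conjugateEquiv (adjf.comp adjν) adjc α).app P =
      adjc.unit.app M ≫ Rc.map (α.app M ≫ Lν.map e ≫ l) := by
  have h1 := unit_conjugateEquiv (adjf.comp adjν) adjc α M
  rw [Functor.map_comp Rc, ← reassoc_of% h1]
  have h3 := (conjugateEquiv (adjf.comp adjν) adjc α).naturality (Lν.map e ≫ l)
  rw [← h3]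
  have h4 := adjν.unit.naturality e
  dsimp at h4
  simp only [Adjunction.comp_unit_app, Functor.comp_map, Functor.map_comp, assoc]
  rw [← Functor.map_comp_assoc Rf, h4, Functor.map_comp_assoc]

end Abs

variable {X Y : Scheme.{u}} (f : X ⟶ Y) [HasRpush f] [HasLpull f]

/-- For every identification `Lf^* O_Y ≅ O_X`, the map `O_Y ⟶ Rf_* O_X` has a left inverse. -/
def HasRetr : Prop :=
  ∀ e : (Lpull f).obj (inD Y (Coh.structureModule Y)) ≅ inD X (Coh.structureModule X),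
    ∃ r : (Rpush f).obj (inD X (Coh.structureModule X)) ⟶ inD Y (Coh.structureModule Y),
      ((lpullAdj f).unit.app _ ≫ (Rpush f).map e.hom) ≫ r = 𝟙 _

section Nu

variable {W : Scheme.{u}} (ν : W ⟶ X) [HasRpush ν] [HasLpull ν] [HasRpush (ν ≫ f)]
  [HasLpull (ν ≫ f)]

/-- `O_Y ⟶ Rf_* O_X ⟶ Rf_* Rν_* O_W` is the canonical map of `ν ≫ f`, up to an automorphism. -/
theorem comp_eq (e : (Lpull f).obj (inD Y (Coh.structureModule Y)) ≅
      inD X (Coh.structureModule X)) :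
    (((lpullAdj f).unit.app _ ≫ (Rpush f).map e.hom) ≫ (Rpush f).map (EtaIff.eta ν)) ≫
        (rpushCompIso ν f).hom.app (inD W (Coh.structureModule W)) =
      (lpullAdj (ν ≫ f)).unit.app (inD Y (Coh.structureModule Y)) ≫ (Rpush (ν ≫ f)).map
        ((lpullCompIso ν f).inv.app _ ≫ (Lpull ν).map e.hom ≫ (EtaIff.lpullO ν).hom) := by
  exact comp_eq_abs (lpullAdj f) (lpullAdj ν) (lpullAdj (ν ≫ f)) (lpullCompIso ν f).inv e.hom
    (EtaIff.lpullO ν).hom

/-- A left inverse of `O_Y ⟶ Rf_* O_X`. -/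
theorem hasRetr [HasInjectiveResolutions W.Modules] (h0 : IsIso (ClSub.unitToPush (ν ≫ f)))
    (hp : ∀ p : ℕ, 0 < p → IsZero ((Coh.Rpush (ν ≫ f) p).obj (Coh.structureModule W))) :
    HasRetr f := by
  intro e
  have h1 : IsIso (EtaIff.eta (ν ≫ f)) := (EtaIff.isIso_eta_iff (ν ≫ f)).2 ⟨h0, hp⟩
  let e' : (Lpull (ν ≫ f)).obj (inD Y (Coh.structureModule Y)) ≅
      inD W (Coh.structureModule W) :=
    (lpullCompIso ν f).symm.app _ ≪≫ (Lpull ν).mapIso e ≪≫ EtaIff.lpullO ν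
  have h2 : (lpullAdj (ν ≫ f)).unit.app (inD Y (Coh.structureModule Y)) ≫
      (Rpush (ν ≫ f)).map e'.hom =
      EtaIff.eta (ν ≫ f) ≫ (Rpush (ν ≫ f)).map ((EtaIff.lpullO (ν ≫ f)).inv ≫ e'.hom) := by
    have h5 : (Rpush (ν ≫ f)).map e'.hom = (Rpush (ν ≫ f)).map (EtaIff.lpullO (ν ≫ f)).hom ≫
        (Rpush (ν ≫ f)).map ((EtaIff.lpullO (ν ≫ f)).inv ≫ e'.hom) := by
      rw [← Functor.map_comp, Iso.hom_inv_id_assoc]
    rw [h5]
    exact (assoc _ _ _).symm
  let ζ : inD Y (Coh.structureModule Y) ⟶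
      (Rpush (ν ≫ f)).obj (inD W (Coh.structureModule W)) :=
    (lpullAdj (ν ≫ f)).unit.app (inD Y (Coh.structureModule Y)) ≫ (Rpush (ν ≫ f)).map e'.hom
  have h3 : IsIso ζ := by
    change IsIso ((lpullAdj (ν ≫ f)).unit.app (inD Y (Coh.structureModule Y)) ≫
      (Rpush (ν ≫ f)).map e'.hom)
    rw [h2]
    infer_instance
  refine ⟨(Rpush f).map (EtaIff.eta ν) ≫
    (rpushCompIso ν f).hom.app (inD W (Coh.structureModule W)) ≫ inv ζ, ?_⟩
  have h4 := comp_eq f ν e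
  rw [← assoc, ← assoc, h4]
  exact IsIso.hom_inv_id ζ

end Nu

variable {f}

/-- Hypothesis `hsplit` of row S15711. -/
theorem exists_split (hr : HasRetr f) (h : RpushPreservesQCoh f)
    (hL : Dual3.LpullPreservesQCoh f) (adjL : Dual3.LpullQ f hL ⊣ RpushQ f h)
    (OY : DQCoh Y) (eY : OY.obj ≅ inD Y (Coh.structureModule Y))
    (OX : DQCoh X) (eX : OX.obj ≅ inD X (Coh.structureModule X))
    (e : (Dual3.LpullQ f hL).obj OY ≅ OX) :
    ∃ η' : (RpushQ f h).obj OX ⟶ OY,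
      IsIso (adjL.unit.app OY ≫ (RpushQ f h).map e.hom ≫ η') := by
  obtain ⟨e', he'⟩ := Eta.exists_eta_eq f hL h adjL OY OX e
  obtain ⟨r, hr⟩ := hr ((Lpull f).mapIso eY.symm ≪≫ e' ≪≫ eX)
  let r' : (RpushQ f h).obj OX ⟶ OY := ObjectProperty.homMk ((Rpush f).map eX.hom ≫ r ≫ eY.inv)
  refine ⟨r', ?_⟩
  have h1 : adjL.unit.app OY ≫ (RpushQ f h).map e.hom ≫ r' = 𝟙 OY := by
    rw [← assoc]
    ext1
    change (adjL.unit.app OY ≫ (RpushQ f h).map e.hom).hom ≫
      (Rpush f).map eX.hom ≫ r ≫ eY.inv = 𝟙 OY.obj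
    rw [he']
    have h2 := (lpullAdj f).unit.naturality eY.inv
    dsimp at h2
    have h3 : (lpullAdj f).unit.app OY.obj ≫ (Rpush f).map e'.hom ≫ (Rpush f).map eX.hom ≫ r =
        eY.hom := by
      rw [← cancel_epi eY.inv, Iso.inv_hom_id]
      refine Eq.trans ?_ hr
      simp only [Iso.trans_hom, Functor.mapIso_hom, Iso.symm_hom, Functor.map_comp, assoc]
      rw [reassoc_of% h2]
    rw [assoc, reassoc_of% h3, Iso.hom_inv_id]
  have h4 : IsIso (𝟙 OY) := IsIso.id OY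
  rwa [← h1] at h4

section Trace

variable [QuasiCompact f] [QuasiSeparated f]

/-- The trace `Rf_* f^! K ⟶ K` has a section, for every `K ∈ D_QCoh(Y)`. -/
theorem exists_section_trace (hr : HasRetr f) (h : RpushPreservesQCoh f) [HasShriek f h]
    (K : DQCoh Y) :
    ∃ s : K ⟶ (RpushQ f h).obj ((shriek f h).obj K), s ≫ (trace f h).app K = 𝟙 K := by
  obtain ⟨r, hr⟩ := hr (EtaIff.lpullO f)
  have hq : IsQCohD (inD X (Coh.structureModule X)) :=
    PerfA.QCohD.isQCohD_inD _ (Fdesc.StructMod.isQCoh_structureModule X)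
  have hi : IsIso (EtaIff.eta f ≫ r) := by
    change IsIso (((lpullAdj f).unit.app _ ≫ (Rpush f).map (EtaIff.lpullO f).hom) ≫ r)
    rw [hr]
    infer_instance
  obtain ⟨r', hr'⟩ := Eta.exists_retraction f (Iso.refl _) (Iso.refl _) hq (EtaIff.lpullO f)
    (EtaIff.eta f) rfl r hi K.obj K.property
  have hu := Groth.Agent.Ega1.ADualUniv.isUniv_of_adj (h := h) (shriekAdj f h) K
  obtain ⟨s, hs⟩ := Eta.exists_section_trace f K.property hu r' hr'
  refine ⟨ObjectProperty.homMk s, ?_⟩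
  ext1
  exact hs

/-- Hypothesis `hsurj` of rows S15710, S15718. -/
theorem epi_homology_trace (hr : HasRetr f) (h : RpushPreservesQCoh f) [HasShriek f h]
    (K : DQCoh Y) (n : ℤ) :
    Epi ((DerivedCategory.homologyFunctor Y.Modules n).map
      ((ObjectProperty.ι IsQCohD).map ((trace f h).app K))) := by
  obtain ⟨s, hs⟩ := exists_section_trace hr h K
  have h1 : (DerivedCategory.homologyFunctor Y.Modules n).map ((ObjectProperty.ι IsQCohD).map s) ≫
      (DerivedCategory.homologyFunctor Y.Modules n).map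
        ((ObjectProperty.ι IsQCohD).map ((trace f h).app K)) = 𝟙 _ := by
    rw [← Functor.map_comp, ← Functor.map_comp, hs, CategoryTheory.Functor.map_id,
      CategoryTheory.Functor.map_id]
  exact epi_of_epi_fac h1

end Trace

end K870.SplitNu
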