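import Groth.Agent.Refuted.K826.Ring
import Groth.Agent.Refuted.K390.Exc
import Groth.Agent.Refuted.K855.CM
import Groth.Agent.Refuted.K870.DualEx
import Groth.Agent.Refuted.K870.SplitNu
import Groth.Agent.Refuted.K870.Inst

/-!
# Nodes K and D of the two-chart counterexample
-/

set_option autoImplicit false

universe u

open CategoryTheory Category Limits AlgebraicGeometry Groth.Agent.Refuted.K826

attribute [local instance] HasDerivedCategory.standard

namespace K870.Nodes

section K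

variable (k : Type u) [Field k]

instance isCohenMacaulayRing_T : LocCoh.IsCohenMacaulayRing (T k) :=
  Groth.Agent.Refuted.K855.CM.isCohenMacaulayRing_example k 2

/-- A scheme of finite type over `k` (through `Spec T`), irreducible and Cohen–Macaulay, has a dualizing
complex concentrated in any prescribed degree. -/
theorem exists_K_of_finiteType {X : Scheme.{u}} (f : X ⟶ Spec (CommRingCat.of (T k)))
    [LocallyOfFiniteType f] [QuasiCompact f] [IrreducibleSpace X]
    (hcm : ∀ x : X, LocCoh.IsCohenMacaulayLocalRing (X.presheaf.stalk x))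
    [∀ (U : Scheme.{u}) (j : U ⟶ X) [IsOpenImmersion j],
      PreservesFiniteLimits (Scheme.Modules.restrictFunctor j)]
    [∀ (R : CommRingCat.{u}), PreservesFiniteLimits (tilde.functor R)] (n : ℤ) :
    ∃ K : DCoh.DQCoh X, Dual2.IsDualizingSch X K.obj ∧
      ∀ i : ℤ, i ≠ n → IsZero (DCoh.HD K.obj i) := by
  have hg : LocallyOfFiniteType (Spec.map (CommRingCat.ofHom (algebraMap k (T k)))) := by
    rw [HasRingHomProperty.Spec_iff (P := @LocallyOfFiniteType)]
    exact (RingHom.finiteType_algebraMap (A := k) (B := T k)).2 inferInstance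
  exact DualEx.exists_dualizing k (f ≫ Spec.map (CommRingCat.ofHom (algebraMap k (T k)))) hcm n

/-- Node K: a dualizing complex on `Spec T` concentrated in any prescribed degree. -/
theorem exists_K [IrreducibleSpace (Spec (CommRingCat.of (T k)))]
    [∀ (U : Scheme.{u}) (j : U ⟶ Spec (CommRingCat.of (T k))) [IsOpenImmersion j],
      PreservesFiniteLimits (Scheme.Modules.restrictFunctor j)]
    [∀ (R : CommRingCat.{u}), PreservesFiniteLimits (tilde.functor R)] (n : ℤ) :
    ∃ K : DCoh.DQCoh (Spec (CommRingCat.of (T k))),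
      Dual2.IsDualizingSch (Spec (CommRingCat.of (T k))) K.obj ∧
        ∀ i : ℤ, i ≠ n → IsZero (DCoh.HD K.obj i) :=
  exists_K_of_finiteType k (𝟙 _)
    (fun x => Groth.Agent.Refuted.K855.CM.stalk_Spec (CommRingCat.of (T k)) x) n

end K

section D

variable {X X'' Y : Scheme.{u}} (ν : X'' ⟶ X) (f : X ⟶ Y)

/-- The left inverse of `O_Y ⟶ Rf_* O_X`, all existence binders discharged. -/
theorem hasRetr (h0 : IsIso (ClSub.unitToPush (ν ≫ f)))
    (hp : ∀ p : ℕ, 0 < p → IsZero ((Coh.Rpush (ν ≫ f) p).obj (Coh.structureModule X'')))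
    [DCoh.HasRpush f] [DCoh.HasLpull f] : SplitNu.HasRetr f := by
  have := Inst.hasRpush ν
  have := Inst.hasLpull ν
  have := Inst.hasRpush (ν ≫ f)
  have := Inst.hasLpull (ν ≫ f)
  have := Inst.hasInjectiveResolutions X''
  exact SplitNu.hasRetr f ν h0 hp

/-- Node D for S15710 and S15718: `h^n` of every trace of `f` is an epimorphism. -/
theorem epi_trace [QuasiCompact f] [QuasiSeparated f]
    (h0 : IsIso (ClSub.unitToPush (ν ≫ f)))
    (hp : ∀ p : ℕ, 0 < p → IsZero ((Coh.Rpush (ν ≫ f) p).obj (Coh.structureModule X'')))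
    [DCoh.HasRpush f] (h : DCoh.RpushPreservesQCoh f) [DCoh.HasShriek f h] (K : DCoh.DQCoh Y)
    (n : ℤ) :
    Epi ((DerivedCategory.homologyFunctor Y.Modules n).map
      ((ObjectProperty.ι DCoh.IsQCohD).map ((DCoh.trace f h).app K))) := by
  have := Inst.hasLpull f
  exact SplitNu.epi_homology_trace (hasRetr ν f h0 hp) h K n

/-- Node D for S15711: the hypothesis `hsplit`. -/
theorem exists_split (h0 : IsIso (ClSub.unitToPush (ν ≫ f)))
    (hp : ∀ p : ℕ, 0 < p → IsZero ((Coh.Rpush (ν ≫ f) p).obj (Coh.structureModule X'')))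
    [DCoh.HasRpush f] [DCoh.HasLpull f] (h : DCoh.RpushPreservesQCoh f)
    (hL : Dual3.LpullPreservesQCoh f) (adjL : Dual3.LpullQ f hL ⊣ DCoh.RpushQ f h)
    (OY : DCoh.DQCoh Y) (eY : OY.obj ≅ DCoh.inD Y (Coh.structureModule Y))
    (OX : DCoh.DQCoh X) (eX : OX.obj ≅ DCoh.inD X (Coh.structureModule X))
    (e : (Dual3.LpullQ f hL).obj OY ≅ OX) :
    ∃ η' : (DCoh.RpushQ f h).obj OX ⟶ OY,
      IsIso (adjL.unit.app OY ≫ (DCoh.RpushQ f h).map e.hom ≫ η') :=
  SplitNu.exists_split (hasRetr ν f h0 hp) h hL adjL OY eY OX eX e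

/-- The converse side of S15711: with this `f`, all its derived binders exist. -/
theorem exists_split_data [QuasiCompact f] [QuasiSeparated f]
    (h0 : IsIso (ClSub.unitToPush (ν ≫ f)))
    (hp : ∀ p : ℕ, 0 < p → IsZero ((Coh.Rpush (ν ≫ f) p).obj (Coh.structureModule X''))) :
    ∃ (_ : DCoh.HasRpush f) (h : DCoh.RpushPreservesQCoh f) (_ : DCoh.HasLpull f)
      (hL : Dual3.LpullPreservesQCoh f) (adjL : Dual3.LpullQ f hL ⊣ DCoh.RpushQ f h)
      (OY : DCoh.DQCoh Y) (_ : OY.obj ≅ DCoh.inD Y (Coh.structureModule Y))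
      (OX : DCoh.DQCoh X) (_ : OX.obj ≅ DCoh.inD X (Coh.structureModule X))
      (e : (Dual3.LpullQ f hL).obj OY ≅ OX), ∃ η' : (DCoh.RpushQ f h).obj OX ⟶ OY,
      IsIso (adjL.unit.app OY ≫ (DCoh.RpushQ f h).map e.hom ≫ η') := by
  have i1 := Inst.hasRpush f
  have i2 := Inst.hasLpull f
  have h := Inst.rpushPreservesQCoh f
  have hL := Inst.lpullPreservesQCoh f
  exact ⟨i1, h, i2, hL, Inst.adjQ f h hL, Inst.OQ Y, Iso.refl _, Inst.OQ X, Iso.refl _,
    Inst.lpullOQ f hL, exists_split ν f h0 hp h hL _ _ (Iso.refl _) _ (Iso.refl _) _⟩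

end D

end K870.Nodes
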