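import Groth.Agent.RatSing.K870.EtaIff

/-!
# A left inverse of `O_Y ⟶ Rf_* O_X` from a module `A` with `Rf_* A = O_Y`

Let `f : X ⟶ Y` be a morphism and `ι : O_X ⟶ A` a morphism of `O_X`-modules such that
`O_Y ⟶ f_* O_X ⟶ f_* A` is an isomorphism and `R^p f_* A = 0` for `p > 0`. Then `O_Y ⟶ Rf_* O_X` has a
left inverse, and for every `K ∈ D_QCoh(Y)` the trace `Rf_* f^! K ⟶ K` has a section.
-/

set_option autoImplicit false

universe u

open CategoryTheory Category Limits AlgebraicGeometry

attribute [local instance] HasDerivedCategory.standard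

namespace K870.Split

open DCoh Groth.Agent Groth.Agent.PerfC.DTens Groth.Agent.PerfC.LpullTens
  Groth.Agent.Ega1.ADualUniv Groth.Agent.Dcoh.DerPull

variable {X Y : Scheme.{u}} (f : X ⟶ Y) [HasRpush f] [HasLpull f]
  [HasInjectiveResolutions X.Modules]
  {A : X.Modules} (ι : Coh.structureModule X ⟶ A)
  (h0 : IsIso (ClSub.unitToPush f ≫ (Scheme.Modules.pushforward f).map ι))
  (hp : ∀ p : ℕ, 0 < p → IsZero ((Coh.Rpush f p).obj A))

include h0 hp in
/-- For every identification `Lf^* O_Y ≅ O_X`, the map `O_Y ⟶ Rf_* O_X` has a left inverse. -/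
theorem exists_retraction (e : (Lpull f).obj (inD Y (Coh.structureModule Y)) ≅
    inD X (Coh.structureModule X)) :
    ∃ r : (Rpush f).obj (inD X (Coh.structureModule X)) ⟶ inD Y (Coh.structureModule Y),
      ((lpullAdj f).unit.app _ ≫ (Rpush f).map e.hom) ≫ r = 𝟙 _ := by
  have hO : ∀ i : ℤ, i ≠ 0 → IsZero (HD (inD Y (Coh.structureModule Y)) i) := fun i hi => by
    rcases lt_or_gt_of_ne hi with h | h
    · exact DerivedCategory.isZero_of_isGE _ 0 i h
    · exact DerivedCategory.isZero_of_isLE _ 0 i h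
  let η : inD Y (Coh.structureModule Y) ⟶ (Rpush f).obj (inD X (Coh.structureModule X)) :=
    (lpullAdj f).unit.app _ ≫ (Rpush f).map e.hom
  let c : DerivedCategory.singleFunctor X.Modules 0 ⋙ Rpush f ⋙
      DerivedCategory.homologyFunctor Y.Modules 0 ≅ Scheme.Modules.pushforward f :=
    PerfC.RpushSingle.natIso f 0 ≪≫ (Scheme.Modules.pushforward f).rightDerivedZeroIsoSelf
  obtain ⟨a, ha⟩ := EtaZero.exists_iso (Scheme.Modules.pullbackPushforwardAdjunction f)
    (lpullAdj f) c (fun N => PerfC.RpushTrunc.isGE_Rpush f (inD X N) 0)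
    (Coh.structureModule Y) (Coh.structureModule X) e η rfl
  let b : Coh.structureModule X ⟶ Coh.structureModule X :=
    a.inv ≫ Fga.UnitRestrict.pullbackUnitHom f
  have hb : IsIso b := by
    change IsIso (a.inv ≫ Fga.UnitRestrict.pullbackUnitHom f)
    infer_instance
  have h1 : ClSub.unitToPush f = EtaZero.zeroHom c _ _ η ≫
      (Scheme.Modules.pushforward f).map b := by
    have h2 := Fga.UnitRestrict.unit_pullbackUnitHom f
    change _ = _ ≫ (Scheme.Modules.pushforward f).map (a.inv ≫ Fga.UnitRestrict.pullbackUnitHom f)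
    rw [ha, assoc, ← Functor.map_comp, Iso.hom_inv_id_assoc]
    exact h2.symm
  -- the composite `O_Y ⟶ Rf_* O_X ⟶ Rf_* A`
  let ξ : inD Y (Coh.structureModule Y) ⟶ (Rpush f).obj (inD X A) :=
    η ≫ (Rpush f).map ((DerivedCategory.singleFunctor X.Modules 0).map (b ≫ ι))
  have hξ0 : IsIso ((DerivedCategory.homologyFunctor Y.Modules 0).map ξ) := by
    have h3 : (DerivedCategory.singleFunctorCompHomologyFunctorIso Y.Modules 0).inv.app
        (Coh.structureModule Y) ≫ (DerivedCategory.homologyFunctor Y.Modules 0).map ξ ≫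
          c.hom.app A = ClSub.unitToPush f ≫ (Scheme.Modules.pushforward f).map ι := by
      have h7 := c.hom.naturality (b ≫ ι)
      simp only [Functor.comp_map] at h7
      change _ ≫ (DerivedCategory.homologyFunctor Y.Modules 0).map (η ≫ (Rpush f).map
        ((DerivedCategory.singleFunctor X.Modules 0).map (b ≫ ι))) ≫ c.hom.app A = _
      rw [Functor.map_comp, assoc, h7, h1]
      simp only [EtaZero.zeroHom, Functor.map_comp, assoc]
    have h4 : IsIso ((DerivedCategory.singleFunctorCompHomologyFunctorIso Y.Modules 0).inv.app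
        (Coh.structureModule Y) ≫ (DerivedCategory.homologyFunctor Y.Modules 0).map ξ ≫
          c.hom.app A) := by
      rw [h3]
      exact h0
    have h5 : IsIso ((DerivedCategory.homologyFunctor Y.Modules 0).map ξ ≫ c.hom.app A) :=
      IsIso.of_isIso_comp_left
        ((DerivedCategory.singleFunctorCompHomologyFunctorIso Y.Modules 0).inv.app
          (Coh.structureModule Y)) _
    exact IsIso.of_isIso_comp_right _ (c.hom.app A)
  have hξ : IsIso ξ := by
    rw [DerivedCategory.isIso_iff]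
    intro i
    rcases lt_trichotomy i 0 with h | h | h
    · exact Limits.IsZero.isIso (hO i h.ne) (PerfC.RpushSingle.isZero_of_neg f _ i h) _
    · subst h
      exact hξ0
    · obtain ⟨p, rfl⟩ := Int.eq_ofNat_of_zero_le h.le
      exact Limits.IsZero.isIso (hO _ h.ne') ((hp p (by simpa using h)).of_iso
        (PerfC.RpushSingle.iso f p A)) _
  refine ⟨(Rpush f).map ((DerivedCategory.singleFunctor X.Modules 0).map (b ≫ ι)) ≫ inv ξ, ?_⟩
  change η ≫ _ ≫ inv ξ = _
  rw [← assoc]
  exact IsIso.hom_inv_id ξ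

include h0 hp in
/-- Hypothesis `hsplit` of row S15711. -/
theorem exists_split (h : RpushPreservesQCoh f) (hL : Dual3.LpullPreservesQCoh f)
    (adjL : Dual3.LpullQ f hL ⊣ RpushQ f h)
    (OY : DQCoh Y) (eY : OY.obj ≅ inD Y (Coh.structureModule Y))
    (OX : DQCoh X) (eX : OX.obj ≅ inD X (Coh.structureModule X))
    (e : (Dual3.LpullQ f hL).obj OY ≅ OX) :
    ∃ η' : (RpushQ f h).obj OX ⟶ OY,
      IsIso (adjL.unit.app OY ≫ (RpushQ f h).map e.hom ≫ η') := by
  obtain ⟨e', he'⟩ := Eta.exists_eta_eq f hL h adjL OY OX e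
  obtain ⟨r, hr⟩ := exists_retraction f ι h0 hp ((Lpull f).mapIso eY.symm ≪≫ e' ≪≫ eX)
  let r' : (RpushQ f h).obj OX ⟶ OY := ObjectProperty.homMk ((Rpush f).map eX.hom ≫ r ≫ eY.inv)
  refine ⟨r', ?_⟩
  have h1 : adjL.unit.app OY ≫ (RpushQ f h).map e.hom ≫ r' = 𝟙 OY := by
    rw [← assoc]
    ext1
    change (adjL.unit.app OY ≫ (RpushQ f h).map e.hom).hom ≫
      (Rpush f).map eX.hom ≫ r ≫ eY.inv = 𝟙 OY.obj
    rw [he']
    have h2 := (lpullAdj f).unit.naturality eY.inv
    dsimp at h2
    have h3 : (lpullAdj f).unit.app OY.obj ≫ (Rpush f).map e'.hom ≫ (Rpush f).map eX.hom ≫ r =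
        eY.hom := by
      rw [← cancel_epi eY.inv, Iso.inv_hom_id]
      refine Eq.trans ?_ hr
      simp only [Iso.trans_hom, Functor.mapIso_hom, Iso.symm_hom, Functor.map_comp, assoc]
      rw [reassoc_of% h2]
    rw [assoc, reassoc_of% h3, Iso.hom_inv_id]
  have h4 : IsIso (𝟙 OY) := IsIso.id OY
  rwa [← h1] at h4

section Trace

variable [QuasiCompact f] [QuasiSeparated f]

include h0 hp in
/-- The trace `Rf_* f^! K ⟶ K` has a section, for every `K ∈ D_QCoh(Y)`. -/
theorem exists_section_trace (h : RpushPreservesQCoh f) [HasShriek f h] (K : DQCoh Y) :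
    ∃ s : K ⟶ (RpushQ f h).obj ((shriek f h).obj K), s ≫ (trace f h).app K = 𝟙 K := by
  obtain ⟨r, hr⟩ := exists_retraction f ι h0 hp (EtaIff.lpullO f)
  have hq : IsQCohD (inD X (Coh.structureModule X)) :=
    PerfA.QCohD.isQCohD_inD _ (Fdesc.StructMod.isQCoh_structureModule X)
  have hi : IsIso (EtaIff.eta f ≫ r) := by
    change IsIso (((lpullAdj f).unit.app _ ≫ (Rpush f).map (EtaIff.lpullO f).hom) ≫ r)
    rw [hr]
    infer_instance
  obtain ⟨r', hr'⟩ := Eta.exists_retraction f (Iso.refl _) (Iso.refl _) hq (EtaIff.lpullO f)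
    (EtaIff.eta f) rfl r hi K.obj K.property
  have hu := Groth.Agent.Ega1.ADualUniv.isUniv_of_adj (h := h) (shriekAdj f h) K
  obtain ⟨s, hs⟩ := Eta.exists_section_trace f K.property hu r' hr'
  refine ⟨ObjectProperty.homMk s, ?_⟩
  ext1
  exact hs

include h0 hp in
/-- Hypothesis `hsurj` of rows S15710, S15718. -/
theorem epi_homology_trace (h : RpushPreservesQCoh f) [HasShriek f h] (K : DQCoh Y) (n : ℤ) :
    Epi ((DerivedCategory.homologyFunctor Y.Modules n).map
      ((ObjectProperty.ι IsQCohD).map ((trace f h).app K))) := by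
  obtain ⟨s, hs⟩ := exists_section_trace f ι h0 hp h K
  have h1 : (DerivedCategory.homologyFunctor Y.Modules n).map ((ObjectProperty.ι IsQCohD).map s) ≫
      (DerivedCategory.homologyFunctor Y.Modules n).map
        ((ObjectProperty.ι IsQCohD).map ((trace f h).app K)) = 𝟙 _ := by
    rw [← Functor.map_comp, ← Functor.map_comp, hs, CategoryTheory.Functor.map_id,
      CategoryTheory.Functor.map_id]
  exact epi_of_epi_fac h1

end Trace

end K870.Split
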